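import Groth.Agent.NonAbH1.K299.HensVal
import Groth.Agent.Etalg.RamBasic
import Groth.Agent.Etalg.RamDVR
import Mathlib.RingTheory.DedekindDomain.IntegralClosure

/-!
# Finite separable extensions with trivial residue extension have bounded degree

`A` a henselian DVR with fraction field `K`, `Λ / K` algebraic, `W` a valuation subring of `Λ` dominating `A`, all
of whose values are powers of the value of `ϖ`; `P ⊆ Λ` a subfield such that every element of `W` is congruent to an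
element of `P`, `π ∈ P` of value `v(ϖ)^m`, `m ≥ 1`, dominating all the values `< 1` on `P`. Then every finite separable
subextension of `Λ / P` has degree at most `m`.
-/

set_option autoImplicit false
universe u

namespace K287.Bound

open IsLocalRing EtRam Groth.Agent.Etalg

section Disc

variable {Λ : Type u} [Field Λ] (W : ValuationSubring Λ) (ϖ : Λ) (hϖ0 : ϖ ≠ 0) (hϖ1 : W.valuation ϖ < 1)
  (hϖ : ∀ x : Λ, x ≠ 0 → ∃ k : ℤ, W.valuation x = W.valuation ϖ ^ k)

include hϖ0 hϖ1 hϖ in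
/-- Uniformizers of subfields. -/
theorem exists_unif (F : Subfield Λ) (π : Λ) (hπF : π ∈ F) (hπ0 : π ≠ 0) (hπ1 : W.valuation π < 1) :
    ∃ ρ ∈ F, ρ ≠ 0 ∧ ∃ d : ℕ, 0 < d ∧ W.valuation ρ = W.valuation ϖ ^ d ∧
      ∀ x ∈ F, x ≠ 0 → ∃ j : ℤ, W.valuation x = W.valuation ρ ^ j := by
  classical
  have hpos : 0 < W.valuation ϖ := zero_lt_iff.2 ((Valuation.ne_zero_iff _).2 hϖ0)
  have ht0 : W.valuation ϖ ≠ 0 := hpos.ne'
  have hanti : StrictAnti (fun n : ℤ => W.valuation ϖ ^ n) := zpow_right_strictAnti₀ hpos hϖ1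
  have hex : ∃ d : ℕ, 0 < d ∧ ∃ ρ ∈ F, ρ ≠ 0 ∧ W.valuation ρ = W.valuation ϖ ^ d := by
    obtain ⟨k, hk⟩ := hϖ π hπ0
    have hk0 : 0 < k := by
      by_contra hcon
      have h1 := hanti.antitone (not_lt.1 hcon)
      simp only [zpow_zero] at h1
      rw [← hk] at h1
      exact absurd hπ1 (not_lt.2 h1)
    obtain ⟨d, rfl⟩ := Int.eq_ofNat_of_zero_le hk0.le
    exact ⟨d, by exact_mod_cast hk0, π, hπF, hπ0, by rw [hk, zpow_natCast]⟩
  obtain ⟨hd0, ρ, hρF, hρ0, hρ⟩ := Nat.find_spec hex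
  set d := Nat.find hex with hd
  refine ⟨ρ, hρF, hρ0, d, hd0, hρ, fun x hx hx0 => ?_⟩
  obtain ⟨k, hk⟩ := hϖ x hx0
  set q := k / (d : ℤ) with hq
  set r := k % (d : ℤ) with hr
  have hdz : (0 : ℤ) < d := by exact_mod_cast hd0
  have hr0 : 0 ≤ r := Int.emod_nonneg _ hdz.ne'
  have hrd : r < d := Int.emod_lt_of_pos _ hdz
  have hkqr : k = d * q + r := (Int.mul_ediv_add_emod k d).symm
  have hy : W.valuation (x / ρ ^ q) = W.valuation ϖ ^ r := by
    rw [map_div₀, map_zpow₀, hk, hρ, ← zpow_natCast, ← zpow_mul, ← zpow_sub₀ ht0]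
    congr 1
    rw [hkqr]; ring
  have hr' : r = 0 := by
    by_contra hne
    have hrpos : 0 < r := lt_of_le_of_ne hr0 (Ne.symm hne)
    obtain ⟨m, hm⟩ := Int.eq_ofNat_of_zero_le hr0
    have hm0 : 0 < m := by rw [hm] at hrpos; exact_mod_cast hrpos
    have hmd : m < d := by rw [hm] at hrd; exact_mod_cast hrd
    refine Nat.find_min hex hmd ⟨hm0, x / ρ ^ q, div_mem hx (zpow_mem hρF _),
      div_ne_zero hx0 (zpow_ne_zero _ hρ0), ?_⟩
    rw [hy, hm, zpow_natCast]
  refine ⟨q, ?_⟩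
  rw [hkqr, hr', add_zero, zpow_mul, zpow_natCast, ← hρ] at hk
  exact hk

end Disc

theorem core {R P F : Type u} [CommRing R] [IsDomain R] [IsDiscreteValuationRing R] [Field P] [Algebra R P]
    [IsFractionRing R P] [Field F] [Algebra P F] [Algebra R F] [IsScalarTower R P F] [FiniteDimensional P F]
    [Algebra.IsSeparable P F] (V : ValuationSubring F) (hV : ∀ x : F, x ∈ V ↔ IsIntegral R x) (ρ : F)
    (hρ0 : ρ ≠ 0) (hρ1 : V.valuation ρ < 1) (hρ : ∀ x : F, V.valuation x < 1 → V.valuation x ≤ V.valuation ρ)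
    (π : R) (hπ : π ∈ maximalIdeal R) (e : ℕ)
    (he : V.valuation (algebraMap R F π) = V.valuation ρ ^ e)
    (hres : ∀ x ∈ V, ∃ r : R, V.valuation (x - algebraMap R F r) < 1) : Module.finrank P F ≤ e := by
  classical
  have hρV : ρ ∈ V := (V.valuation_le_one_iff ρ).1 hρ1.le
  have hvρ : V.valuation ρ ≠ 0 := (Valuation.ne_zero_iff _).2 hρ0
  let N : Submodule R F := Subalgebra.toSubmodule (integralClosure R F)
  have hN : ∀ x : F, x ∈ N ↔ x ∈ V := fun x => (hV x).symm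
  have hNfg : N.FG := by
    have h1 : Module.Finite R (integralClosure R F) := IsIntegralClosure.finite R P F (integralClosure R F)
    exact (Module.Finite.iff_fg (N := N)).1 h1
  let S : Submodule R F := Submodule.span R (Set.range fun i : Fin e => ρ ^ (i : ℕ))
  have hstep : ∀ j ≤ e, ∀ x ∈ V, ∃ s ∈ S, ∃ x' ∈ V, x = s + ρ ^ j * x' := by
    intro j
    induction j with
    | zero => exact fun _ x hx => ⟨0, zero_mem _, x, hx, by simp⟩
    | succ j ih =>
      intro hj x hx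
      obtain ⟨s, hs, x', hx', rfl⟩ := ih (by omega) x hx
      obtain ⟨r, hr⟩ := hres x' hx'
      refine ⟨s + r • ρ ^ j, add_mem hs (S.smul_mem r (Submodule.subset_span ⟨⟨j, by omega⟩, rfl⟩)),
        (x' - algebraMap R F r) / ρ, ?_, ?_⟩
      · rw [← V.valuation_le_one_iff, map_div₀]
        exact div_le_one_of_le₀ (hρ _ hr) zero_le
      · rw [Algebra.smul_def]
        field_simp
        ring
  have hNS : N ≤ S := by
    refine Submodule.le_of_le_smul_of_le_jacobson_bot hNfg (maximalIdeal_le_jacobson _) ?_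
    intro x hx
    obtain ⟨s, hs, x', hx', rfl⟩ := hstep e le_rfl x ((hN x).1 hx)
    refine Submodule.add_mem_sup hs ?_
    have hπF : algebraMap R F π ≠ 0 := by
      intro h0
      rw [h0, map_zero] at he
      exact pow_ne_zero e hvρ he.symm
    have h1 : ρ ^ e * x' = π • ((ρ ^ e * x') / algebraMap R F π) := by
      rw [Algebra.smul_def, mul_div_cancel₀ _ hπF]
    rw [h1]
    refine Submodule.smul_mem_smul hπ ?_
    rw [hN, ← V.valuation_le_one_iff, map_div₀, he, map_mul, map_pow,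
      mul_div_cancel_left₀ _ (pow_ne_zero e hvρ)]
    exact (V.valuation_le_one_iff _).2 hx'
  have htop : Submodule.span P (Set.range fun i : Fin e => ρ ^ (i : ℕ)) = ⊤ := by
    rw [eq_top_iff]
    intro x _
    have hx : IsAlgebraic R x :=
      (IsFractionRing.isAlgebraic_iff R P F).2 (IsAlgebraic.of_finite P x)
    obtain ⟨r, hr0, hr⟩ := hx.exists_integral_multiple
    have h1 : r • x ∈ S := hNS ((hN _).2 ((hV _).2 hr))
    have h2 : ∀ y ∈ S, y ∈ Submodule.span P (Set.range fun i : Fin e => ρ ^ (i : ℕ)) := by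
      intro y hy
      exact Submodule.span_le_restrictScalars R P _ hy
    have hrP : algebraMap R P r ≠ 0 := by
      rwa [Ne, map_eq_zero_iff _ (IsFractionRing.injective R P)]
    have h3 : x = (algebraMap R P r)⁻¹ • (r • x) := by
      rw [← algebraMap_smul P r x, smul_smul, inv_mul_cancel₀ hrP, one_smul]
    rw [h3]
    exact Submodule.smul_mem _ _ (h2 _ h1)
  calc Module.finrank P F = Module.finrank P (⊤ : Submodule P F) := (finrank_top P F).symm
    _ = (Set.range fun i : Fin e => ρ ^ (i : ℕ)).finrank P := by rw [← htop]; rfl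
    _ ≤ e := by simpa using finrank_range_le_card (R := P) fun i : Fin e => ρ ^ (i : ℕ)

/-- powers of a value less than one -/
theorem pos_of_zpow_lt {Γ : Type*} [LinearOrderedCommGroupWithZero Γ] {t : Γ} (ht0 : 0 < t) (ht1 : t < 1)
    {k : ℤ} (h : t ^ k < 1) : 0 < k := by
  by_contra hcon
  have h1 := (zpow_right_strictAnti₀ ht0 ht1).antitone (not_lt.1 hcon)
  simp only [zpow_zero] at h1
  exact absurd h (not_lt.2 h1)

theorem zpow_le_of_lt_one {Γ : Type*} [LinearOrderedCommGroupWithZero Γ] {t : Γ} (ht0 : 0 < t) (ht1 : t < 1)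
    {k : ℤ} (h : t ^ k < 1) : t ^ k ≤ t := by
  have h1 := (zpow_right_strictAnti₀ ht0 ht1).antitone (Int.add_one_le_of_lt (pos_of_zpow_lt ht0 ht1 h))
  simpa using h1

theorem finrank_le {A K Λ : Type u} [CommRing A] [IsDomain A] [IsDiscreteValuationRing A]
    [HenselianLocalRing A] [Field K] [Algebra A K] [IsFractionRing A K] [Field Λ] [Algebra K Λ]
    [Algebra A Λ] [IsScalarTower A K Λ] [Algebra.IsAlgebraic K Λ] (W : ValuationSubring Λ)
    (hW : Dominates A (algebraMap A Λ) W) (ϖ : Λ) (hϖ0 : ϖ ≠ 0) (hϖ1 : W.valuation ϖ < 1)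
    (hϖ : ∀ x : Λ, x ≠ 0 → ∃ k : ℤ, W.valuation x = W.valuation ϖ ^ k)
    (P : IntermediateField K Λ) (hres : ∀ x ∈ W, ∃ y ∈ P, W.valuation (x - y) < 1)
    (m : ℕ) (π : Λ) (hπP : π ∈ P) (hπ0 : π ≠ 0) (hm : 0 < m) (hπ : W.valuation π = W.valuation ϖ ^ m)
    (F : IntermediateField P Λ) [FiniteDimensional P F] [Algebra.IsSeparable P F] :
    Module.finrank P F ≤ m := by
  have hpos : 0 < W.valuation ϖ := zero_lt_iff.2 ((Valuation.ne_zero_iff _).2 hϖ0)
  have hanti : StrictAnti (fun n : ℤ => W.valuation ϖ ^ n) := zpow_right_strictAnti₀ hpos hϖ1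
  have hπ1 : W.valuation π < 1 := by
    rw [hπ]; exact pow_lt_one₀ hpos.le hϖ1 hm.ne'
  obtain ⟨π', hπ'P, hπ'0, d, hd, hπ'v, hP⟩ := exists_unif W ϖ hϖ0 hϖ1 hϖ P.toSubfield π hπP hπ0 hπ1
  have hπF : π ∈ F.toSubfield := F.algebraMap_mem ⟨π, hπP⟩
  obtain ⟨ρ, hρF, hρ0, r, hr, hρv, hF⟩ := exists_unif W ϖ hϖ0 hϖ1 hϖ F.toSubfield π hπF hπ0 hπ1
  have hρpos : 0 < W.valuation ρ := zero_lt_iff.2 ((Valuation.ne_zero_iff _).2 hρ0)
  have hρ1 : W.valuation ρ < 1 := by rw [hρv]; exact pow_lt_one₀ hpos.le hϖ1 hr.ne'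
  have hπ'1 : W.valuation π' < 1 := by rw [hπ'v]; exact pow_lt_one₀ hpos.le hϖ1 hd.ne'
  have hπ'F : π' ∈ F.toSubfield := F.algebraMap_mem ⟨π', hπ'P⟩
  obtain ⟨j, hj⟩ := hF π' hπ'F hπ'0
  have hj0 : 0 < j := pos_of_zpow_lt hρpos hρ1 (hj ▸ hπ'1)
  obtain ⟨e, rfl⟩ := Int.eq_ofNat_of_zero_le hj0.le
  rw [zpow_natCast] at hj
  have hde : d = r * e := by
    have h1 : W.valuation ϖ ^ (d : ℤ) = W.valuation ϖ ^ ((r * e : ℕ) : ℤ) := by
      rw [zpow_natCast, zpow_natCast, ← hπ'v, hj, hρv, pow_mul]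
    exact_mod_cast hanti.injective h1
  obtain ⟨i, hi⟩ := hP π hπP hπ0
  have hi0 : 0 < i := by
    refine pos_of_zpow_lt (zero_lt_iff.2 ((Valuation.ne_zero_iff _).2 hπ'0)) hπ'1 (hi ▸ hπ1)
  obtain ⟨i, rfl⟩ := Int.eq_ofNat_of_zero_le hi0.le
  have hmd : m = d * i := by
    have h1 : W.valuation ϖ ^ (m : ℤ) = W.valuation ϖ ^ ((d * i : ℕ) : ℤ) := by
      rw [zpow_natCast, zpow_natCast, ← hπ, hi, hπ'v, zpow_natCast, pow_mul]
    exact_mod_cast hanti.injective h1
  have hem : e ≤ m := by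
    have hi1 : 1 ≤ i := by exact_mod_cast hi0
    calc e ≤ r * e := Nat.le_mul_of_pos_left e hr
      _ = d := hde.symm
      _ ≤ d * i := Nat.le_mul_of_pos_right d hi1
      _ = m := hmd.symm
  refine le_trans ?_ hem
  let R : ValuationSubring P := W.comap (algebraMap P Λ)
  let V : ValuationSubring F := W.comap (algebraMap F Λ)
  have hRdvr : IsDiscreteValuationRing R := by
    refine (RamDVR.isDVR_of_uniformizer R ⟨π', hπ'P⟩ ?_ ?_ ?_).1
    · exact fun h => hπ'0 (congrArg Subtype.val h)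
    · exact (RamBasic.valuation_comap_lt_one_iff W _ _).2 hπ'1
    · intro x hx
      obtain ⟨k, hk⟩ := hP (x : Λ) x.2 (fun h => hx (Subtype.ext h))
      refine ⟨k, ?_⟩
      rw [← map_zpow₀, RamBasic.valuation_comap_eq_iff, map_zpow₀, map_zpow₀]
      exact hk
  let _ : Algebra R F := ((algebraMap P F).comp (algebraMap R P)).toAlgebra
  have : IsScalarTower R P F := IsScalarTower.of_algebraMap_eq' rfl
  have hAP : ∀ a : A, algebraMap K P (algebraMap A K a) ∈ R := by
    intro a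
    show algebraMap P Λ (algebraMap K P (algebraMap A K a)) ∈ W
    rw [← IsScalarTower.algebraMap_apply K P Λ, ← IsScalarTower.algebraMap_apply A K Λ]
    exact hW.1 a
  let φ : A →+* R := (((algebraMap K P).comp (algebraMap A K)).codRestrict R.toSubring hAP)
  have hRV : ∀ y : R, algebraMap R F y ∈ V := fun y => y.2
  have hV : ∀ x : F, x ∈ V ↔ IsIntegral R x := by
    intro x
    refine ⟨fun hx => ?_, fun hx => K299.HensVal.mem_of_isIntegral V hRV hx⟩
    have h1 : (x : Λ) ∈ W := hx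
    obtain ⟨f, hf, hfx⟩ := (K299.HensVal.mem_iff K W hW.1 hW.2 (x : Λ)).1 h1
    refine ⟨f.map φ, hf.map φ, ?_⟩
    rw [Polynomial.eval₂_map]
    apply (algebraMap F Λ).injective
    rw [Polynomial.hom_eval₂, map_zero, ← hfx]
    congr 1
    ext a
    show algebraMap P Λ (algebraMap K P (algebraMap A K a)) = algebraMap A Λ a
    rw [← IsScalarTower.algebraMap_apply K P Λ, ← IsScalarTower.algebraMap_apply A K Λ]
  have hπ'R : (⟨π', hπ'P⟩ : P) ∈ R := (W.valuation_le_one_iff _).1 hπ'1.le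
  refine core (R := R) (P := P) (F := F) V hV ⟨ρ, hρF⟩ (fun h => hρ0 (congrArg Subtype.val h)) ?_ ?_
    ⟨⟨π', hπ'P⟩, hπ'R⟩ ?_ e ?_ ?_
  · exact (RamBasic.valuation_comap_lt_one_iff W _ _).2 hρ1
  · intro x hx
    rw [RamBasic.valuation_comap_lt_one_iff] at hx
    rw [RamBasic.valuation_comap_le_iff]
    show W.valuation (x : Λ) ≤ W.valuation ρ
    rcases eq_or_ne x 0 with rfl | hx0
    · rw [ZeroMemClass.coe_zero, map_zero]; exact zero_le
    obtain ⟨k, hk⟩ := hF (x : Λ) x.2 (fun h => hx0 (Subtype.ext h))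
    rw [hk]
    refine zpow_le_of_lt_one hρpos hρ1 ?_
    rw [← hk]
    exact hx
  · rw [R.valuation_lt_one_iff]
    exact (RamBasic.valuation_comap_lt_one_iff W _ _).2 hπ'1
  · rw [← map_pow, RamBasic.valuation_comap_eq_iff, map_pow, map_pow]
    exact hj
  · intro x hx
    obtain ⟨y, hyP, hy⟩ := hres (x : Λ) hx
    have hyW : y ∈ W := by
      have h1 : (x : Λ) - y ∈ W := (W.valuation_le_one_iff _).1 hy.le
      have h2 := sub_mem (show (x : Λ) ∈ W from hx) h1
      simpa using h2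
    refine ⟨⟨⟨y, hyP⟩, hyW⟩, ?_⟩
    rw [RamBasic.valuation_comap_lt_one_iff]
    exact hy

end K287.Bound
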