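import Mathlib.FieldTheory.PurelyInseparable.PerfectClosure
import Mathlib.FieldTheory.SeparableClosure
import Mathlib.LinearAlgebra.Dimension.Finite

/-!
# Field theory for the refutation of S7162
-/

set_option autoImplicit false

namespace K287.FieldLem

open Polynomial IntermediateField

theorem finiteDimensional_of_bound {P Λ : Type*} [Field P] [Field Λ] [Algebra P Λ] [Algebra.IsAlgebraic P Λ]
    (m : ℕ) (h : ∀ F : IntermediateField P Λ, FiniteDimensional P F → Module.finrank P F ≤ m) :
    FiniteDimensional P Λ := by
  by_contra hcon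
  have h1 : ((m + 1 : ℕ) : Cardinal) ≤ Module.rank P Λ := by
    have h2 : Cardinal.aleph0 ≤ Module.rank P Λ := by
      rw [← not_lt]
      intro h3
      exact hcon (Module.rank_lt_aleph0_iff.1 h3)
    exact (Cardinal.natCast_lt_aleph0 (n := m + 1)).le.trans h2
  obtain ⟨s, hs, hli⟩ := exists_finset_linearIndependent_of_le_rank h1
  have hfd : FiniteDimensional P (IntermediateField.adjoin P (s : Set Λ)) :=
    IntermediateField.finiteDimensional_adjoin fun x _ => (Algebra.IsAlgebraic.isAlgebraic x).isIntegral
  have h2 := h _ hfd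
  have h3 : s.card ≤ Module.finrank P (IntermediateField.adjoin P (s : Set Λ)) := by
    have h4 : LinearIndependent P
        (fun x : s => (⟨(x : Λ), IntermediateField.subset_adjoin P _ x.2⟩ :
          IntermediateField.adjoin P (s : Set Λ))) := by
      refine LinearIndependent.of_comp (IntermediateField.adjoin P (s : Set Λ)).val.toLinearMap ?_
      exact hli
    have h5 := h4.fintype_card_le_finrank
    simpa using h5
  omega

/-- A subring `Q` of an algebraic extension `E / k` of fields of characteristic `p` containing all the separable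
elements and all the `p`-power roots of elements of `k` is everything. -/
theorem mem_of_sep_of_root (p : ℕ) [hp : Fact p.Prime] {k E : Type*} [Field k] [Field E] [Algebra k E]
    [CharP k p] [Algebra.IsAlgebraic k E] (Q : Subring E) (hsep : ∀ x : E, IsSeparable k x → x ∈ Q)
    (hroot : ∀ (c : k) (n : ℕ), ∃ b ∈ Q, b ^ p ^ n = algebraMap k E c) (x : E) : x ∈ Q := by
  have hkE : ExpChar k p := ExpChar.prime hp.out
  have hE : CharP E p := charP_of_injective_algebraMap (algebraMap k E).injective p
  have hEE : ExpChar E p := ExpChar.prime hp.out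
  have h1 : ExpChar (separableClosure k E) p :=
    expChar_of_injective_algebraMap (algebraMap k (separableClosure k E)).injective p
  obtain ⟨n, s, hs⟩ := IsPurelyInseparable.pow_mem (separableClosure k E) p x
  have hssep : IsSeparable k (s : E) := mem_separableClosure_iff.1 s.2
  have hs' : (s : E) = x ^ p ^ n := hs
  have h2 : (s : E) ∈ k⟮(s : E) ^ p ^ n⟯ := by
    rw [← adjoin_simple_eq_adjoin_pow_expChar_pow_of_isSeparable k E hssep p n]
    exact mem_adjoin_simple_self k _
  have h3 : IsIntegral k ((s : E) ^ p ^ n) := (Algebra.IsAlgebraic.isAlgebraic _).isIntegral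
  obtain ⟨f, hf⟩ : ∃ f : k[X], aeval ((s : E) ^ p ^ n) f = (s : E) := by
    rw [← mem_toSubalgebra, adjoin_simple_toSubalgebra_of_isAlgebraic h3.isAlgebraic,
      Algebra.adjoin_singleton_eq_range_aeval] at h2
    exact h2
  choose b hbQ hb using fun i => hroot (f.coeff i) n
  let y : E := ∑ i ∈ Finset.range (f.natDegree + 1), b i * (s : E) ^ i
  have hyQ : y ∈ Q := Q.sum_mem fun i _ => Q.mul_mem (hbQ i) (Q.pow_mem (hsep _ hssep) i)
  have hy : y ^ p ^ n = x ^ p ^ n := by
    rw [← hs', ← hf, aeval_eq_sum_range, sum_pow_char_pow]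
    refine Finset.sum_congr rfl fun i _ => ?_
    rw [mul_pow, hb, Algebra.smul_def, ← pow_mul, ← pow_mul, mul_comm i]
  have : y = x := by
    have h4 : (iterateFrobenius E p n) y = (iterateFrobenius E p n) x := by
      rw [iterateFrobenius_def, iterateFrobenius_def]; exact hy
    exact (iterateFrobenius_inj E p n) h4
  exact this ▸ hyQ

end K287.FieldLem
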