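import Groth.Agent.EtAlg.K287.HalfEb
import Groth.Agent.Refuted.K727.Stmt

/-!
# Half (E) of the refutation of S7162
-/

set_option autoImplicit false
universe u

namespace K287.HalfE

open Polynomial IsLocalRing IntermediateField EtRam Groth.Agent.Etalg

/-- Half (E), unpacked: every admissible square over `A → B` has a weak solution. -/
theorem exists_weak (p : ℕ) [hp : Fact p.Prime] (A B K L A' B' K' L' : Type u)
    [CommRing A] [IsDomain A] [IsDiscreteValuationRing A] [HenselianLocalRing A]
    [CommRing B] [IsDomain B] [IsDiscreteValuationRing B] [Algebra A B] [Field K] [Field L]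
    [Algebra A K] [IsFractionRing A K] [Algebra B L] [Algebra K L] [Algebra A L]
    [IsScalarTower A K L] [IsScalarTower A B L] [CharP K p] [Algebra.IsAlgebraic K L]
    (τ : ℕ → L) (hτ : ∀ n, τ (n + 1) ^ p = τ n) (r : ℕ) (hr : r ≠ 0) (α : B) (hα : α ^ p ^ r = α)
    (hT : τ 0 ∈ adjoin K {algebraMap B L α})
    (hsep : Algebra.IsSeparable (adjoin K (Set.range τ)) L)
    (hroot : ∀ (c : A) (n : ℕ), ∃ b : B, algebraMap B L b ∈ adjoin K (Set.range τ) ∧
      b ^ p ^ n - algebraMap A B c ∈ maximalIdeal B)
    [CommRing A'] [IsDomain A'] [IsDiscreteValuationRing A']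
    [CommRing B'] [IsDomain B'] [IsDiscreteValuationRing B'] [Field K'] [Field L']
    [Algebra A A'] [Algebra B B'] [Algebra A' B'] [Algebra A B']
    [IsScalarTower A B B'] [IsScalarTower A A' B']
    [Algebra A' K'] [IsFractionRing A' K'] [Algebra B' L'] [IsFractionRing B' L']
    [Algebra K' L'] [Algebra A' L'] [IsScalarTower A' K' L'] [IsScalarTower A' B' L']
    [Algebra K K'] [Algebra A K'] [IsScalarTower A K K'] [IsScalarTower A A' K']
    [Algebra L L'] [Algebra B L'] [IsScalarTower B L L'] [IsScalarTower B B' L']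
    [IsLocalHom (algebraMap A A')] [IsLocalHom (algebraMap B B')] [IsLocalHom (algebraMap A' B')]
    (hinj : Function.Injective (algebraMap A' B')) (hLL' : Algebra.IsSeparable L L')
    [IsSepClosed (ResidueField A')] :
    ∃ (K₁ : Type u) (_ : Field K₁) (_ : Algebra K' K₁), FiniteDimensional K' K₁ ∧ IsWeakSolution B' K' L' K₁ := by
  let _ : Algebra K L' := ((algebraMap L L').comp (algebraMap K L)).toAlgebra
  have i1 : IsScalarTower K L L' := IsScalarTower.of_algebraMap_eq fun _ => rfl
  let _ : Algebra A L' := ((algebraMap K L').comp (algebraMap A K)).toAlgebra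
  have i2 : IsScalarTower A K L' := IsScalarTower.of_algebraMap_eq fun _ => rfl
  have key1 : ∀ a : A, algebraMap A L' a = algebraMap B' L' (algebraMap A B' a) := by
    intro a
    rw [IsScalarTower.algebraMap_apply A K L', IsScalarTower.algebraMap_apply K L L',
      ← IsScalarTower.algebraMap_apply A K L, IsScalarTower.algebraMap_apply A B L,
      ← IsScalarTower.algebraMap_apply B L L', IsScalarTower.algebraMap_apply B B' L',
      ← IsScalarTower.algebraMap_apply A B B']
  have key2 : ∀ a : A, algebraMap K' L' (algebraMap A K' a) = algebraMap B' L' (algebraMap A B' a) := by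
    intro a
    rw [IsScalarTower.algebraMap_apply A A' K', ← IsScalarTower.algebraMap_apply A' K' L',
      IsScalarTower.algebraMap_apply A' B' L', ← IsScalarTower.algebraMap_apply A A' B']
  have i3 : IsScalarTower A B' L' := IsScalarTower.of_algebraMap_eq key1
  have i4 : IsScalarTower K K' L' := by
    refine IsScalarTower.of_algebraMap_eq' ?_
    refine IsLocalization.ringHom_ext (nonZeroDivisors A) (RingHom.ext fun a => ?_)
    show algebraMap K L' (algebraMap A K a) = algebraMap K' L' (algebraMap K K' (algebraMap A K a))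
    rw [← IsScalarTower.algebraMap_apply A K L', key1, ← IsScalarTower.algebraMap_apply A K K', key2]
  have i5 : IsLocalHom (algebraMap A B') := by
    rw [IsScalarTower.algebraMap_eq A A' B']
    infer_instance
  have i6 : Algebra.IsAlgebraic L L' := hLL'.isAlgebraic
  have i7 : Algebra.IsAlgebraic K L' := Algebra.IsAlgebraic.trans K L L'
  let g : L →ₐ[K] L' := IsScalarTower.toAlgHom K L L'
  let σ : ℕ → L' := fun n => algebraMap L L' (τ n)
  have hrange : Set.range σ = g '' Set.range τ := by
    rw [← Set.range_comp]; rfl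
  have hM0 : adjoin K (Set.range σ) = (adjoin K (Set.range τ)).map g := by
    rw [hrange, adjoin_map]
  have hmem : ∀ x : L, x ∈ adjoin K (Set.range τ) → algebraMap L L' x ∈ adjoin K (Set.range σ) := by
    intro x hx
    rw [hM0]
    exact ⟨x, hx, rfl⟩
  refine exists_weak_core p A K A' B' K' L' hinj σ (fun n => ?_) r hr (algebraMap B B' α) ?_ ?_ ?_ ?_
  · show algebraMap L L' (τ (n + 1)) ^ p = algebraMap L L' (τ n)
    rw [← map_pow, hτ]
  · rw [← map_pow, hα]
  · have h1 : algebraMap B' L' (algebraMap B B' α) = g (algebraMap B L α) := by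
      show _ = algebraMap L L' (algebraMap B L α)
      rw [← IsScalarTower.algebraMap_apply B B' L', IsScalarTower.algebraMap_apply B L L']
    rw [h1, ← Set.image_singleton, ← adjoin_map]
    exact ⟨τ 0, hT, rfl⟩
  · let f : adjoin K (Set.range τ) →+* adjoin K (Set.range σ) :=
      ((algebraMap L L').comp (algebraMap (adjoin K (Set.range τ)) L)).codRestrict
        (adjoin K (Set.range σ)).toSubfield.toSubring fun x => hmem x x.2
    let _ : Algebra (adjoin K (Set.range τ)) (adjoin K (Set.range σ)) := f.toAlgebra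
    have h1 : IsScalarTower (adjoin K (Set.range τ)) (adjoin K (Set.range σ)) L' :=
      IsScalarTower.of_algebraMap_eq fun _ => rfl
    have h2 : Algebra.IsSeparable (adjoin K (Set.range τ)) L' :=
      Algebra.IsSeparable.trans (adjoin K (Set.range τ)) L L'
    exact Algebra.isSeparable_tower_top_of_isSeparable (adjoin K (Set.range τ)) (adjoin K (Set.range σ)) L'
  · intro c n
    obtain ⟨b, hb, hbc⟩ := hroot c n
    refine ⟨algebraMap B B' b, ?_, ?_⟩
    · rw [← IsScalarTower.algebraMap_apply B B' L', IsScalarTower.algebraMap_apply B L L']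
      exact hmem _ hb
    · rw [IsScalarTower.algebraMap_apply A B B', ← map_pow, ← map_sub]
      exact map_mem_maximal _ hbc

/-- **Half (E)**: every admissible square over `A → B` has a weak solution. -/
theorem half_E (p : ℕ) [hp : Fact p.Prime] (A B K L : Type)
    [CommRing A] [IsDomain A] [IsDiscreteValuationRing A] [HenselianLocalRing A]
    [CommRing B] [IsDomain B] [IsDiscreteValuationRing B] [Algebra A B] [Field K] [Field L]
    [Algebra A K] [IsFractionRing A K] [Algebra B L] [Algebra K L] [Algebra A L]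
    [IsScalarTower A K L] [IsScalarTower A B L] [CharP K p] [Algebra.IsAlgebraic K L]
    (τ : ℕ → L) (hτ : ∀ n, τ (n + 1) ^ p = τ n) (r : ℕ) (hr : r ≠ 0) (α : B) (hα : α ^ p ^ r = α)
    (hT : τ 0 ∈ adjoin K {algebraMap B L α})
    (hsep : Algebra.IsSeparable (adjoin K (Set.range τ)) L)
    (hroot : ∀ (c : A) (n : ℕ), ∃ b : B, algebraMap B L b ∈ adjoin K (Set.range τ) ∧
      b ^ p ^ n - algebraMap A B c ∈ maximalIdeal B) :
    Groth.Agent.Refuted.S7162.HalfE A B K L := by
  intro A' B' K' L' _ _ _ _ _ _ _ _ _ _ _ _ _ _ _ _ _ _ _ _ _ _ _ _ _ _ _ _ _ _ _ _ _ h1 h2 h3 h4 h5 h6 h7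
  have : IsSepClosed (ResidueField A') := h6.1
  exact exists_weak p A B K L A' B' K' L' τ hτ r hr α hα hT hsep hroot h3 h5

end K287.HalfE
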