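import Mathlib.FieldTheory.IsSepClosed
import Mathlib.FieldTheory.PurelyInseparable.PerfectClosure
import Mathlib.RingTheory.Henselian
import Mathlib.RingTheory.LocalRing.ResidueField.Basic

/-!
# Roots of unity in henselian rings with separably closed residue field
-/

set_option autoImplicit false

namespace K287.HalfE

open Polynomial IsLocalRing

theorem mem_range_of_separable {k' E : Type*} [Field k'] [Field E] [Algebra k' E] [IsSepClosed k'] (x : E)
    (hx : IsSeparable k' x) : x ∈ (algebraMap k' E).range := by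
  have h1 : (minpoly k' x).degree = 1 :=
    IsSepClosed.degree_eq_one_of_irreducible k' (minpoly.irreducible hx.isIntegral) hx
  exact minpoly.mem_range_of_degree_eq_one k' x h1

theorem isSeparable_of_pow_eq (p : ℕ) [Fact p.Prime] {k E : Type*} [Field k] [Field E] [Algebra k E]
    [CharP k p] (r : ℕ) (hr : r ≠ 0) (x : E) (hx : x ^ p ^ r = x) : IsSeparable k x := by
  have hsep : (X ^ p ^ r - X : k[X]).Separable := by
    rw [separable_def, derivative_sub, derivative_X_pow, derivative_X, Nat.cast_pow, CharP.cast_eq_zero,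
      zero_pow hr, C_0, zero_mul, zero_sub]
    exact (isCoprime_one_right (R := k[X])).neg_right
  refine hsep.of_dvd (minpoly.dvd k x ?_)
  simp [hx]

/-- Elements with `a^(p^r) = a` come from below. -/
theorem mem_range_of_pow_eq (p : ℕ) [hp : Fact p.Prime] {R S : Type*} [CommRing R] [HenselianLocalRing R]
    [CommRing S] [IsDomain S] [IsLocalRing S] [Algebra R S] [IsLocalHom (algebraMap R S)] [CharP R p] [CharP S p]
    [IsSepClosed (ResidueField R)] (r : ℕ) (hr : r ≠ 0) (a : S) (ha : a ^ p ^ r = a) :
    a ∈ (algebraMap R S).range := by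
  have hkR : CharP (ResidueField R) p := by
    refine (CharP.charP_iff_prime_eq_zero hp.out).2 ?_
    rw [← map_natCast (residue R), CharP.cast_eq_zero, map_zero]
  have hq : p ^ r ≠ 0 := pow_ne_zero _ hp.out.ne_zero
  have hq1 : 1 < p ^ r := Nat.one_lt_pow hr hp.out.one_lt
  obtain ⟨x₀, hx₀⟩ := mem_range_of_separable (k' := ResidueField R) (residue S a)
    (isSeparable_of_pow_eq p r hr (residue S a) (by rw [← map_pow, ha]))
  obtain ⟨a₀, rfl⟩ := residue_surjective x₀
  have hx₁ : residue R a₀ ^ p ^ r = residue R a₀ := by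
    apply (algebraMap (ResidueField R) (ResidueField S)).injective
    rw [map_pow, hx₀, ← map_pow, ha]
  obtain ⟨b, hb, hba⟩ := HenselianLocalRing.is_henselian (X ^ p ^ r - X : R[X])
    (monic_X_pow_sub (by
      rw [degree_X]
      exact_mod_cast hq1)) a₀ (by
      rw [eval_sub, eval_pow, eval_X, ← residue_eq_zero_iff, map_sub, map_pow, hx₁, sub_self]) (by
      rw [derivative_sub, derivative_X_pow, derivative_X, Nat.cast_pow, CharP.cast_eq_zero,
        zero_pow hr, C_0, zero_mul, zero_sub, eval_neg, eval_one]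
      exact isUnit_one.neg)
  rw [IsRoot.def, eval_sub, eval_pow, eval_X, sub_eq_zero] at hb
  refine ⟨b, ?_⟩
  have hd : (algebraMap R S b - a) ^ p ^ r = algebraMap R S b - a := by
    rw [sub_pow_char_pow, ← map_pow, hb, ha]
  have hd' : residue S (algebraMap R S b - a) = 0 := by
    rw [map_sub, ← hx₀, sub_eq_zero]
    have : residue R b = residue R a₀ := by
      rw [← sub_eq_zero, ← map_sub, residue_eq_zero_iff]
      exact hba
    rw [← this]
    rfl
  set d := algebraMap R S b - a with hdd
  rw [residue_eq_zero_iff] at hd'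
  have h1 : d * (1 - d ^ (p ^ r - 1)) = 0 := by
    rw [mul_sub, mul_one, ← pow_succ', Nat.sub_add_cancel hq1.le, hd, sub_self]
  rcases mul_eq_zero.1 h1 with h2 | h2
  · exact sub_eq_zero.1 h2
  · exfalso
    have h3 : d ^ (p ^ r - 1) ∈ maximalIdeal S := Ideal.pow_mem_of_mem _ hd' _ (by omega)
    rw [← sub_eq_zero.1 h2] at h3
    exact (Ideal.ne_top_iff_one _).1 (maximalIdeal.isMaximal S).ne_top h3

end K287.HalfE
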