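import Groth.Agent.EtAlg.K287.WeakExist
import Mathlib.FieldTheory.PurelyInseparable.Basic

/-!
# A normal extension which is finite over `L'`, and weak solutions
-/

set_option autoImplicit false
universe u

namespace K287.NormFin

open IntermediateField

theorem exists_normal {K' L' : Type u} [Field K'] [Field L'] [Algebra K' L']
    (P : IntermediateField K' L') [Normal K' P] [FiniteDimensional P L'] :
    ∃ (N : Type u) (_ : Field N) (_ : Algebra K' N) (_ : Algebra L' N) (_ : IsScalarTower K' L' N),
      Normal K' N ∧ FiniteDimensional L' N := by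
  classical
  have h1 : Algebra.IsAlgebraic K' P := Normal.toIsAlgebraic
  have h2 : Algebra.IsAlgebraic K' L' := Algebra.IsAlgebraic.trans K' P L'
  have h3 : Algebra.IsAlgebraic K' (AlgebraicClosure L') :=
    Algebra.IsAlgebraic.trans K' L' (AlgebraicClosure L')
  have h4 : IsAlgClosure K' (AlgebraicClosure L') := ⟨inferInstance, inferInstance⟩
  have h5 : Normal K' (AlgebraicClosure L') := IsAlgClosure.normal K' _
  let φ : L' →ₐ[K'] AlgebraicClosure L' := IsScalarTower.toAlgHom K' L' (AlgebraicClosure L')
  obtain ⟨s, hs⟩ := (Module.Finite.fg_top : (⊤ : Submodule P L').FG)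
  have h6 : FiniteDimensional K' (adjoin K' (s : Set L')) :=
    finiteDimensional_adjoin fun x _ => (Algebra.IsAlgebraic.isAlgebraic x).isIntegral
  let NK : IntermediateField K' (AlgebraicClosure L') :=
    normalClosure K' (adjoin K' (s : Set L')) (AlgebraicClosure L')
  have h7 : Normal K' NK := normalClosure.normal K' _ _
  have h8 : FiniteDimensional K' NK := normalClosure.is_finiteDimensional K' _ _
  obtain ⟨t, ht⟩ : NK.FG := essFiniteType_iff.mp inferInstance
  have hsNK : ∀ x ∈ s, φ x ∈ NK := fun x hx =>
    AlgHom.fieldRange_le_normalClosure (φ.comp (adjoin K' (s : Set L')).val)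
      ⟨⟨x, subset_adjoin K' _ hx⟩, rfl⟩
  let N : IntermediateField L' (AlgebraicClosure L') := adjoin L' (t : Set (AlgebraicClosure L'))
  have h9 : FiniteDimensional L' N :=
    finiteDimensional_adjoin fun x _ => (Algebra.IsAlgebraic.isAlgebraic x).isIntegral
  have h10 : N.restrictScalars K' = P.map φ ⊔ NK := by
    apply le_antisymm
    · intro x hx
      have hx' : x ∈ adjoin L' (t : Set (AlgebraicClosure L')) := hx
      let Q : IntermediateField L' (AlgebraicClosure L') :=
        { (P.map φ ⊔ NK).toSubfield with
          algebraMap_mem' := fun l => by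
            show φ l ∈ P.map φ ⊔ NK
            have hl : l ∈ Submodule.span P (s : Set L') := hs ▸ Submodule.mem_top
            induction hl using Submodule.span_induction with
            | mem y hy => exact (le_sup_right : NK ≤ P.map φ ⊔ NK) (hsNK y hy)
            | zero => rw [map_zero]; exact zero_mem _
            | add y z _ _ hy hz => rw [map_add]; exact add_mem hy hz
            | smul c y _ hy =>
              rw [Algebra.smul_def, map_mul]
              exact mul_mem ((le_sup_left : P.map φ ≤ P.map φ ⊔ NK) ⟨(c : L'), c.2, rfl⟩) hy }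
      have hQ : adjoin L' (t : Set (AlgebraicClosure L')) ≤ Q := by
        rw [adjoin_le_iff]
        intro y hy
        have : y ∈ NK := by rw [← ht]; exact subset_adjoin K' _ hy
        exact (le_sup_right : NK ≤ P.map φ ⊔ NK) this
      exact hQ hx'
    · refine sup_le ?_ ?_
      · rintro _ ⟨y, -, rfl⟩
        exact N.algebraMap_mem y
      · rw [← ht, adjoin_le_iff]
        exact fun y hy => subset_adjoin L' _ hy
  have h11 : Normal K' (P.map φ) := Normal.of_algEquiv (P.equivMap φ)
  have h12 : Normal K' (P.map φ ⊔ NK : IntermediateField K' (AlgebraicClosure L')) := inferInstance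
  have h13 : Normal K' (N.restrictScalars K') := h10 ▸ h12
  exact ⟨N, inferInstance, inferInstance, inferInstance, inferInstance, h13, h9⟩

/-- **Weak solutions exist** if `L'` is finite over an intermediate field normal over `K'`. -/
theorem exists_weak_of {B' K' L' : Type u} [CommRing B'] [IsDomain B'] [IsDiscreteValuationRing B']
    [Field K'] [Field L'] [Algebra B' L'] [IsFractionRing B' L'] [Algebra K' L']
    (P : IntermediateField K' L') [Normal K' P] [FiniteDimensional P L'] :
    ∃ (K₁ : Type u) (_ : Field K₁) (_ : Algebra K' K₁),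
      FiniteDimensional K' K₁ ∧ EtRam.IsWeakSolution B' K' L' K₁ := by
  obtain ⟨N, _, _, _, _, h1, h2⟩ := exists_normal P
  exact WeakExist.exists_weak N

theorem exists_weak_of_purelyInseparable {B' K' L' : Type u} [CommRing B'] [IsDomain B']
    [IsDiscreteValuationRing B']
    [Field K'] [Field L'] [Algebra B' L'] [IsFractionRing B' L'] [Algebra K' L']
    (P : IntermediateField K' L') [IsPurelyInseparable K' P] [FiniteDimensional P L'] :
    ∃ (K₁ : Type u) (_ : Field K₁) (_ : Algebra K' K₁),
      FiniteDimensional K' K₁ ∧ EtRam.IsWeakSolution B' K' L' K₁ :=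
  exists_weak_of P

end K287.NormFin
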