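import Groth.Agent.EtAlg.K287.HalfEa
import Groth.Agent.EtAlg.K287.NormFin
import Groth.Agent.EtAlg.K287.Bound
import Groth.Agent.EtAlg.K287.FieldLem
import Groth.Agent.S1964

/-!
# Half (E) of the refutation of S7162: the core
-/

set_option autoImplicit false
universe u

namespace K287.HalfE

open Polynomial IsLocalRing IntermediateField EtRam Groth.Agent.Etalg

theorem map_mem_maximal {R S : Type*} [CommRing R] [IsLocalRing R] [CommRing S] [IsLocalRing S] (f : R →+* S)
    [IsLocalHom f] {a : R} (ha : a ∈ maximalIdeal R) : f a ∈ maximalIdeal S := by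
  rw [mem_maximalIdeal, mem_nonunits_iff] at ha ⊢
  exact fun hu => ha (isUnit_of_map_unit f a hu)

theorem dominates {A B' L' : Type u} [CommRing A] [IsLocalRing A] [CommRing B'] [IsDomain B']
    [IsDiscreteValuationRing B'] [Field L'] [Algebra A B'] [Algebra B' L'] [IsFractionRing B' L']
    [Algebra A L'] [IsScalarTower A B' L'] [IsLocalHom (algebraMap A B')] :
    Dominates A (algebraMap A L') (RamBasic.vsub B' L') := by
  have h := RamBasic.dominates_vsub B' L'
  refine ⟨fun a => ?_, fun a ha => ?_⟩
  · rw [IsScalarTower.algebraMap_apply A B' L']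
    exact h.1 _
  · rw [IsScalarTower.algebraMap_apply A B' L']
    exact h.2 _ (map_mem_maximal _ ha)

/-- `B'` is integral over the henselian ring `A` when the fraction fields are algebraic. -/
theorem isIntegral_of_algebraic (A K B' L' : Type u) [CommRing A] [IsDomain A]
    [IsDiscreteValuationRing A] [HenselianLocalRing A] [Field K] [Algebra A K] [IsFractionRing A K]
    [CommRing B'] [IsDomain B'] [IsDiscreteValuationRing B'] [Field L'] [Algebra A B'] [Algebra B' L']
    [IsFractionRing B' L'] [Algebra K L'] [Algebra A L'] [IsScalarTower A K L'] [IsScalarTower A B' L']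
    [IsLocalHom (algebraMap A B')] [Algebra.IsAlgebraic K L'] : Algebra.IsIntegral A B' := by
  have hW : Dominates A (algebraMap A L') (RamBasic.vsub B' L') := dominates
  refine ⟨fun b => ?_⟩
  have h1 : IsIntegral A (algebraMap B' L' b) :=
    (K299.HensVal.mem_iff K (RamBasic.vsub B' L') hW.1 hW.2 _).1 (RamBasic.algebraMap_mem_vsub B' L' b)
  exact (isIntegral_algebraMap_iff (IsFractionRing.injective B' L')).1 h1

/-- residues are congruent to elements of `P` -/
theorem hres (p : ℕ) [hp : Fact p.Prime] (A K A' B' K' L' : Type u) [CommRing A] [IsDomain A]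
    [IsDiscreteValuationRing A] [HenselianLocalRing A] [Field K] [Algebra A K] [IsFractionRing A K] [CharP K p]
    [CommRing A'] [IsDomain A'] [IsDiscreteValuationRing A'] [CommRing B'] [IsDomain B']
    [IsDiscreteValuationRing B'] [Field K'] [Field L'] [Algebra A A'] [Algebra A B'] [Algebra A' B']
    [IsScalarTower A A' B'] [Algebra A' K'] [Algebra B' L'] [IsFractionRing B' L']
    [Algebra K' L'] [Algebra A' L'] [IsScalarTower A' K' L'] [IsScalarTower A' B' L']
    [Algebra K L'] [Algebra A L'] [IsScalarTower A K L'] [IsScalarTower A B' L']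
    [IsLocalHom (algebraMap A A')] [IsLocalHom (algebraMap A B')] [IsLocalHom (algebraMap A' B')]
    [Algebra.IsAlgebraic K L'] [IsSepClosed (ResidueField A')]
    (P : Subfield L') (hPK : ∀ x : K', algebraMap K' L' x ∈ P)
    (hroot : ∀ (c : A) (n : ℕ), ∃ b : B', algebraMap B' L' b ∈ P ∧
      b ^ p ^ n - algebraMap A B' c ∈ maximalIdeal B')
    (x : L') (hx : x ∈ RamBasic.vsub B' L') : ∃ y ∈ P, (RamBasic.vsub B' L').valuation (x - y) < 1 := by
  obtain ⟨b, rfl⟩ := hx
  have hAK : CharP A p := (algebraMap A K).charP (IsFractionRing.injective A K) p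
  have hkA : CharP (ResidueField A) p := by
    refine (CharP.charP_iff_prime_eq_zero hp.out).2 ?_
    rw [← map_natCast (residue A), CharP.cast_eq_zero, map_zero]
  have hint : Algebra.IsIntegral A B' := isIntegral_of_algebraic A K B' L'
  have halg : Algebra.IsAlgebraic (ResidueField A) (ResidueField B') := by
    refine ⟨fun x => ?_⟩
    obtain ⟨x, rfl⟩ := residue_surjective x
    obtain ⟨f, hf, hfx⟩ := hint.isIntegral x
    refine ⟨f.map (residue A), (hf.map _).ne_zero, ?_⟩
    rw [aeval_def, eval₂_map]
    have h1 : (algebraMap (ResidueField A) (ResidueField B')).comp (residue A) =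
        (residue B').comp (algebraMap A B') := rfl
    rw [h1, ← hom_eval₂, hfx, map_zero]
  let Q : Subring (ResidueField B') := (P.toSubring.comap (algebraMap B' L')).map (residue B')
  have hQ : residue B' b ∈ Q := by
    refine FieldLem.mem_of_sep_of_root p (k := ResidueField A) Q ?_ ?_ _
    · intro z hz
      have h1 : IsSeparable (ResidueField A') z := by
        have htower : IsScalarTower (ResidueField A) (ResidueField A') (ResidueField B') := by
          refine IsScalarTower.of_algebraMap_eq fun c => ?_
          obtain ⟨c, rfl⟩ := residue_surjective c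
          show residue B' (algebraMap A B' c) = residue B' (algebraMap A' B' (algebraMap A A' c))
          rw [← IsScalarTower.algebraMap_apply A A' B']
        exact hz.tower_top (ResidueField A')
      obtain ⟨w, hw⟩ := mem_range_of_separable z h1
      obtain ⟨w, rfl⟩ := residue_surjective w
      refine ⟨algebraMap A' B' w, ?_, hw⟩
      show algebraMap B' L' (algebraMap A' B' w) ∈ P
      rw [← IsScalarTower.algebraMap_apply A' B' L', IsScalarTower.algebraMap_apply A' K' L']
      exact hPK _
    · intro c n
      obtain ⟨c, rfl⟩ := residue_surjective c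
      obtain ⟨b, hb, hbc⟩ := hroot c n
      refine ⟨residue B' b, ⟨b, hb, rfl⟩, ?_⟩
      rw [← map_pow]
      rw [← residue_eq_zero_iff, map_sub, sub_eq_zero] at hbc
      exact hbc
  obtain ⟨b', hb', hbb'⟩ := hQ
  refine ⟨algebraMap B' L' b', hb', ?_⟩
  rw [← map_sub, RamBasic.vsub_valuation_lt_one_iff, ← residue_eq_zero_iff, map_sub, hbb', sub_self]

/-- the core of half (E) -/
theorem exists_weak_core (p : ℕ) [hp : Fact p.Prime] (A K A' B' K' L' : Type u) [CommRing A] [IsDomain A]
    [IsDiscreteValuationRing A] [HenselianLocalRing A] [Field K] [Algebra A K] [IsFractionRing A K] [CharP K p]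
    [CommRing A'] [IsDomain A'] [IsDiscreteValuationRing A'] [CommRing B'] [IsDomain B']
    [IsDiscreteValuationRing B'] [Field K'] [Field L'] [Algebra A A'] [Algebra A B'] [Algebra A' B']
    [IsScalarTower A A' B'] [Algebra A' K'] [IsFractionRing A' K'] [Algebra B' L'] [IsFractionRing B' L']
    [Algebra K' L'] [Algebra A' L'] [IsScalarTower A' K' L'] [IsScalarTower A' B' L']
    [Algebra K K'] [Algebra K L'] [IsScalarTower K K' L'] [Algebra A L'] [IsScalarTower A K L']
    [IsScalarTower A B' L']
    [IsLocalHom (algebraMap A A')] [IsLocalHom (algebraMap A B')] [IsLocalHom (algebraMap A' B')]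
    (hinj : Function.Injective (algebraMap A' B'))
    [Algebra.IsAlgebraic K L'] [IsSepClosed (ResidueField A')]
    (σ : ℕ → L') (hσ : ∀ n, σ (n + 1) ^ p = σ n) (r : ℕ) (hr : r ≠ 0) (α : B') (hα : α ^ p ^ r = α)
    (hT : σ 0 ∈ adjoin K {algebraMap B' L' α})
    (hsep : Algebra.IsSeparable (adjoin K (Set.range σ)) L')
    (hroot : ∀ (c : A) (n : ℕ), ∃ b : B', algebraMap B' L' b ∈ adjoin K (Set.range σ) ∧
      b ^ p ^ n - algebraMap A B' c ∈ maximalIdeal B') :
    ∃ (K₁ : Type u) (_ : Field K₁) (_ : Algebra K' K₁), FiniteDimensional K' K₁ ∧ IsWeakSolution B' K' L' K₁ := by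
  have hKE : ExpChar K p := ExpChar.prime hp.out
  have hK'c : CharP K' p := charP_of_injective_algebraMap (algebraMap K K').injective p
  have hK'E : ExpChar K' p := ExpChar.prime hp.out
  have hL'c : CharP L' p := charP_of_injective_algebraMap (algebraMap K L').injective p
  have hA'c : CharP A' p := (algebraMap A' K').charP (IsFractionRing.injective A' K') p
  have hB'c : CharP B' p := (algebraMap B' L').charP (IsFractionRing.injective B' L') p
  have hint : Algebra.IsIntegral A B' := isIntegral_of_algebraic A K B' L'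
  have hintA : Algebra.IsIntegral A A' := by
    refine ⟨fun a => ?_⟩
    exact (isIntegral_algebraMap_iff hinj).1 (hint.isIntegral (algebraMap A' B' a))
  obtain ⟨hhens, -⟩ := Groth.Agent.S1964.result A A'
  -- `α` comes from `A'`
  obtain ⟨α', hα'⟩ := mem_range_of_pow_eq p (R := A') r hr α hα
  -- the field `P`
  let P : IntermediateField K' L' := adjoin K' (Set.range σ)
  let M0 : IntermediateField K L' := adjoin K (Set.range σ)
  have hM0P : M0 ≤ P.restrictScalars K := by
    rw [adjoin_le_iff]
    exact fun x hx => subset_adjoin K' _ hx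
  have hT' : σ 0 ∈ (algebraMap K' L').range := by
    have h1 : adjoin K {algebraMap B' L' α} ≤ ((⊥ : IntermediateField K' L').restrictScalars K) := by
      rw [adjoin_le_iff, Set.singleton_subset_iff]
      show algebraMap B' L' α ∈ (⊥ : IntermediateField K' L')
      rw [← hα', ← IsScalarTower.algebraMap_apply A' B' L', IsScalarTower.algebraMap_apply A' K' L']
      exact (⊥ : IntermediateField K' L').algebraMap_mem _
    have h2 : σ 0 ∈ (⊥ : IntermediateField K' L') := h1 hT
    exact mem_bot.1 h2
  have hpow : ∀ n, σ n ^ p ^ n = σ 0 := by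
    intro n
    induction n with
    | zero => simp
    | succ n ih => rw [pow_succ', pow_mul, hσ, ih]
  have hPi : IsPurelyInseparable K' P := by
    rw [isPurelyInseparable_adjoin_iff_pow_mem K' L' p]
    rintro _ ⟨n, rfl⟩
    exact ⟨n, by rw [hpow]; exact hT'⟩
  -- `L' / P` is separable
  have hPsep : Algebra.IsSeparable P L' := by
    let _ : Algebra M0 P := (inclusion hM0P).toRingHom.toAlgebra
    have : IsScalarTower M0 P L' := IsScalarTower.of_algebraMap_eq fun _ => rfl
    exact Algebra.isSeparable_tower_top_of_isSeparable M0 P L'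
  have hW : Dominates A (algebraMap A L') (RamBasic.vsub B' L') := dominates
  -- uniformizers
  obtain ⟨ϖ, hϖ⟩ := IsDiscreteValuationRing.exists_irreducible B'
  obtain ⟨π, hπ⟩ := IsDiscreteValuationRing.exists_irreducible A
  have hdom : Dominates B' ((algebraMap L' L').comp (algebraMap B' L')) (RamBasic.vsub B' L') :=
    RamBasic.dominates_vsub B' L'
  have hϖv : ∀ x : L', x ≠ 0 → ∃ k : ℤ, (RamBasic.vsub B' L').valuation x =
      (RamBasic.vsub B' L').valuation (algebraMap B' L' ϖ) ^ k :=
    fun x hx => RamDVR.exists_zpow_of_frac hdom hϖ x hx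
  have hϖ0 : algebraMap B' L' ϖ ≠ 0 := by
    rw [Ne, map_eq_zero_iff _ (IsFractionRing.injective B' L')]
    exact hϖ.ne_zero
  have hϖ1 : (RamBasic.vsub B' L').valuation (algebraMap B' L' ϖ) < 1 :=
    (RamBasic.vsub_valuation_lt_one_iff B' L' ϖ).2 ((mem_maximalIdeal _).2 hϖ.not_isUnit)
  have hπ0 : algebraMap A L' π ≠ 0 := by
    rw [IsScalarTower.algebraMap_apply A K L', Ne, map_eq_zero, map_eq_zero_iff _ (IsFractionRing.injective A K)]
    exact hπ.ne_zero
  have hπ1 : (RamBasic.vsub B' L').valuation (algebraMap A L' π) < 1 :=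
    hW.2 _ ((mem_maximalIdeal _).2 hπ.not_isUnit)
  obtain ⟨m, hm⟩ := hϖv _ hπ0
  have hpos : 0 < (RamBasic.vsub B' L').valuation (algebraMap B' L' ϖ) :=
    zero_lt_iff.2 ((Valuation.ne_zero_iff _).2 hϖ0)
  have hm0 : 0 < m := Bound.pos_of_zpow_lt hpos hϖ1 (hm ▸ hπ1)
  obtain ⟨m, rfl⟩ := Int.eq_ofNat_of_zero_le hm0.le
  rw [zpow_natCast] at hm
  have hres' : ∀ x ∈ RamBasic.vsub B' L', ∃ y ∈ P.restrictScalars K,
      (RamBasic.vsub B' L').valuation (x - y) < 1 := by
    refine hres p A K A' B' K' L' P.toSubfield (fun x => P.algebraMap_mem x) fun c n => ?_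
    obtain ⟨b, hb, hbc⟩ := hroot c n
    exact ⟨b, hM0P hb, hbc⟩
  have hfd : FiniteDimensional P L' := by
    have halg : Algebra.IsAlgebraic P L' := hPsep.isAlgebraic
    refine FieldLem.finiteDimensional_of_bound m fun F hF => ?_
    have hFs : Algebra.IsSeparable P F := inferInstance
    let F' : IntermediateField (P.restrictScalars K) L' := F
    have hF' : FiniteDimensional (P.restrictScalars K) F' := hF
    have hFs' : Algebra.IsSeparable (P.restrictScalars K) F' := hFs
    exact Bound.finrank_le (A := A) (K := K) (RamBasic.vsub B' L') hW (algebraMap B' L' ϖ) hϖ0 hϖ1 hϖv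
      (P.restrictScalars K) hres' m (algebraMap A L' π)
      (by
        rw [IsScalarTower.algebraMap_apply A K L']
        exact (P.restrictScalars K).algebraMap_mem _) hπ0 (by exact_mod_cast hm0) hm F'
  exact NormFin.exists_weak_of_purelyInseparable P

end K287.HalfE
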