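import Groth.Agent.Etalg.SolNormal
import Groth.Agent.Etalg.RamDVR
import Mathlib.FieldTheory.Normal.Closure

/-!
# Weak solutions exist when the normal closure is finite over `L'`
-/

set_option autoImplicit false
universe u

namespace K287.WeakExist

open IntermediateField EtRam Groth.Agent.Etalg

theorem exists_weak_aux {B' K' L' : Type u} [CommRing B'] [IsDomain B'] [IsDiscreteValuationRing B']
    [Field K'] [Field L'] [Algebra B' L'] [IsFractionRing B' L'] [Algebra K' L']
    (N : Type u) [Field N] [Algebra K' N] [Algebra L' N] [IsScalarTower K' L' N]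
    [Normal K' N] [FiniteDimensional L' N]
    (Ω : Type u) [Field Ω] [IsAlgClosed Ω] [Algebra N Ω] [Algebra L' Ω] [Algebra K' Ω]
    [IsScalarTower K' N Ω] [IsScalarTower L' N Ω] [IsScalarTower K' L' Ω] :
    ∃ (K₁ : Type u) (_ : Field K₁) (_ : Algebra K' K₁),
      FiniteDimensional K' K₁ ∧ EtRam.IsWeakSolution B' K' L' K₁ := by
  obtain ⟨O, hO⟩ := RamBasic.exists_dominates ((algebraMap L' Ω).comp (algebraMap B' L'))
  have hO' : Dominates B' ((algebraMap L' N).comp (algebraMap B' L')) (O.comap (algebraMap N Ω)) := by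
    rw [← RamBasic.dominates_comp_iff, ← RingHom.comp_assoc, ← IsScalarTower.algebraMap_eq L' N Ω]
    exact hO
  obtain ⟨ρ, hρ0, hρ1, hρ⟩ := RamDVR.exists_uniformizer hO'
  have hint : IsIntegral K' ρ := Normal.isIntegral (inferInstance : Normal K' N) ρ
  have hfd : FiniteDimensional K' (K'⟮ρ⟯) := adjoin.finiteDimensional hint
  let φ : N →ₐ[K'] Ω := IsScalarTower.toAlgHom K' N Ω
  let K₀ : IntermediateField K' N := normalClosure K' (K'⟮ρ⟯) N
  let K₁ : IntermediateField K' Ω := K₀.map φ
  have hK₁n : Normal K' K₁ := Normal.of_algEquiv (K₀.equivMap φ)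
  have hK₁f : FiniteDimensional K' K₁ :=
    Module.Finite.equiv (K₀.equivMap φ).toLinearEquiv
  have hρK₁ : algebraMap N Ω ρ ∈ K₁ :=
    ⟨ρ, le_normalClosure _ (mem_adjoin_simple_self K' _), rfl⟩
  have hK₁N : K₁ ≤ φ.fieldRange := by
    rintro _ ⟨y, -, rfl⟩
    exact ⟨y, rfl⟩
  let M : IntermediateField K' Ω := (IsScalarTower.toAlgHom K' L' Ω).fieldRange ⊔ K₁
  have hMN : M ≤ φ.fieldRange := by
    refine sup_le ?_ hK₁N
    rintro _ ⟨l, rfl⟩
    exact ⟨algebraMap L' N l, (IsScalarTower.algebraMap_apply L' N Ω l).symm⟩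
  let f : K₁ →+* M := (inclusion (le_sup_right : K₁ ≤ M)).toRingHom
  refine ⟨K₁, inferInstance, inferInstance, hK₁f,
    SolNormal.isWeakSolution_of_normal O hO K₁ M rfl f (fun _ => rfl) ?_⟩
  rw [RamWeak.isWeaklyUnramified_incl_iff]
  intro x hx
  rw [RamBasic.valuation_comap_lt_one_iff] at hx
  refine ⟨⟨algebraMap N Ω ρ, hρK₁⟩, ?_, ?_⟩
  · rw [RamBasic.valuation_comap_lt_one_iff]
    rw [RamBasic.valuation_comap_lt_one_iff] at hρ1
    exact hρ1
  · rw [RamBasic.valuation_comap_le_iff]
    obtain ⟨y, hy⟩ := hMN x.2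
    have hy' : algebraMap N Ω y = (x : Ω) := hy
    show O.valuation (x : Ω) ≤ O.valuation (algebraMap N Ω ρ)
    rw [← hy', ← RamBasic.valuation_comap_le_iff]
    by_cases hy0 : y = 0
    · rw [hy0, map_zero]; exact zero_le
    obtain ⟨k, hk⟩ := hρ y hy0
    have hx' : (O.comap (algebraMap N Ω)).valuation y < 1 := by
      rw [RamBasic.valuation_comap_lt_one_iff, hy']
      exact hx
    rw [hk] at hx' ⊢
    have hpos : 0 < (O.comap (algebraMap N Ω)).valuation ρ :=
      zero_lt_iff.2 ((Valuation.ne_zero_iff _).2 hρ0)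
    have hk1 : 1 ≤ k := by
      by_contra hcon
      have hk0 : k ≤ 0 := by omega
      have := (zpow_right_strictAnti₀ hpos hρ1).antitone hk0
      simp only [zpow_zero] at this
      exact absurd hx' (not_lt.2 this)
    have := (zpow_right_strictAnti₀ hpos hρ1).antitone hk1
    simpa using this

/-- **Weak solutions exist** as soon as some normal extension `N/K'` containing `L'` is finite over `L'`. -/
theorem exists_weak {B' K' L' : Type u} [CommRing B'] [IsDomain B'] [IsDiscreteValuationRing B']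
    [Field K'] [Field L'] [Algebra B' L'] [IsFractionRing B' L'] [Algebra K' L']
    (N : Type u) [Field N] [Algebra K' N] [Algebra L' N] [IsScalarTower K' L' N]
    [Normal K' N] [FiniteDimensional L' N] :
    ∃ (K₁ : Type u) (_ : Field K₁) (_ : Algebra K' K₁),
      FiniteDimensional K' K₁ ∧ EtRam.IsWeakSolution B' K' L' K₁ :=
  exists_weak_aux N (AlgebraicClosure N)

end K287.WeakExist
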